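import Cfsg.Agent.Lib.Helper33.Sims.Defs

/-! Sims farm (S3385 S3685), piece [A].
PROOF. Let X := ↥P ⧸ T.subgroupOf P, Nat.card X = 3 (= relIndex, by definition index). x' := ⟨x, hTP hx⟩ : ↥P fixes the
base point ⟦1⟧. Goal: x' • ⟦p⁻¹⟧ = ⟦p⁻¹⟧ (QuotientGroup.eq: (p⁻¹)⁻¹ * (x * p⁻¹) ∈ T). The orbit of y := ⟦p⁻¹⟧ under zpowers x' has
cardinality dividing orderOf x' (odd) (MulAction.card_orbit_mul_card_stabilizer_eq_card_group / orbit-stabilizer, Nat.card_zpowers);
if y = base done; otherwise the orbit avoids the base point (a fixed point), so it has at most 2 elements; odd and ≤ 2 gives 1, so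
y is fixed. ALTERNATIVE (elementary): put σ := the permutation of X given by x'. If σ y ≠ y then base, y, σ y are the 3 points,
σ (σ y) ∉ {base, σ y} by injectivity so σ (σ y) = y; then σ^(2k+1) y = σ y ≠ y contradicts x^(orderOf x) = 1.
-/

set_option autoImplicit false
open Cfsg Subgroup Cfsg.Agent.Lib.Helper47 Cfsg.Agent.Lib.Helper32.KSLocal

namespace Cfsg.Agent.Lib.Helper33.Sims

variable {G : Type*} [Group G] [Finite G] {P₁ P₂ T P : Subgroup G}

/-- no four distinct points in a set with three elements -/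
theorem A_four {X : Type*} [Finite X] (h : Nat.card X = 3) (a b c d : X) (hab : a ≠ b) (hac : a ≠ c)
    (had : a ≠ d) (hbc : b ≠ c) (hbd : b ≠ d) (hcd : c ≠ d) : False := by
  have hinj : Function.Injective ![a, b, c, d] := by
    intro i j hij
    fin_cases i <;> fin_cases j <;> simp_all
  have := Nat.card_le_card_of_injective _ hinj
  rw [h, Nat.card_eq_fintype_card, Fintype.card_fin] at this
  omega

/-- [A] an element of odd order of a subgroup `T` of index 3 lies in all `P`-conjugates of `T`. -/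
theorem conj_mem_of_odd (hTP : T ≤ P) (h3 : T.relIndex P = 3) {x p : G} (hx : x ∈ T)
    (hodd : Odd (orderOf x)) (hp : p ∈ P) : p * x * p⁻¹ ∈ T := by
  set X := ↥P ⧸ T.subgroupOf P with hX
  have hcard : Nat.card X = 3 := h3
  set x' : ↥P := ⟨x, hTP hx⟩ with hx'
  set b : X := QuotientGroup.mk (1 : ↥P) with hb
  set y : X := QuotientGroup.mk (⟨p, hp⟩⁻¹ : ↥P) with hy
  have hfixb : x' • b = b := by
    rw [hb, MulAction.Quotient.smul_mk, QuotientGroup.eq]
    show (((x' • (1 : ↥P))⁻¹ * 1 : ↥P) : G) ∈ T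
    simpa using T.inv_mem hx
  have hgoal : x' • y = y → p * x * p⁻¹ ∈ T := by
    intro h
    rw [hy, MulAction.Quotient.smul_mk, eq_comm, QuotientGroup.eq] at h
    have h' : (((⟨p, hp⟩⁻¹ : ↥P)⁻¹ * (x' • (⟨p, hp⟩⁻¹ : ↥P)) : ↥P) : G) ∈ T := h
    simpa [mul_assoc] using h'
  apply hgoal
  by_contra hne
  have hyb : y ≠ b := by
    intro h
    rw [h] at hne
    exact hne hfixb
  have hxyb : x' • y ≠ b := by
    intro h
    apply hyb
    rw [← hfixb] at h
    exact smul_left_cancel x' h
  have hxxy_b : x' • x' • y ≠ b := by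
    intro h
    apply hxyb
    rw [← hfixb] at h
    exact smul_left_cancel x' h
  have hxxy_xy : x' • x' • y ≠ x' • y := by
    intro h
    exact hne (smul_left_cancel x' h)
  have hxxy : x' • x' • y = y := by
    by_contra h
    exact A_four hcard b y (x' • y) (x' • x' • y) hyb.symm hxyb.symm hxxy_b.symm (Ne.symm hne)
      (Ne.symm h) hxxy_xy.symm
  obtain ⟨k, hk⟩ := hodd
  have hpow : ∀ j : ℕ, (x' ^ (2 * j)) • y = y := by
    intro j
    induction j with
    | zero => simp
    | succ j ih =>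
      rw [Nat.mul_succ, pow_add, mul_smul, pow_two, mul_smul, hxxy, ih]
  have hone : x' ^ (2 * k + 1) = 1 := by
    apply Subtype.ext
    show x ^ (2 * k + 1) = 1
    rw [← hk, pow_orderOf_eq_one]
  apply hne
  have := hpow k
  calc x' • y = x' • (x' ^ (2 * k)) • y := by rw [this]
    _ = (x' ^ (2 * k + 1)) • y := by rw [pow_succ', mul_smul]
    _ = y := by rw [hone, one_smul]

end Cfsg.Agent.Lib.Helper33.Sims
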