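import Cfsg.Agent.Lib.Helper33.Sims.A

/-! Sims farm (S3385 S3685), piece [B].
PROOF. N := closure {x | x ∈ T ∧ Odd (orderOf x)} ≤ T. P₁ and P₂ normalize N: conjugation by p ∈ Pᵢ maps a generator to a
generator (conj_mem_of_orderOf: conj_mem_of_odd h.le1 h.i1; orderOf (p*x*p⁻¹) = orderOf x: orderOf_conj / MulAut.conj injective);
use le_normalizer_of_cj_le + cj_closure, or closure_induction. So N = ⊥ by h.core: every element of odd order of T is 1.
For x ∈ T write orderOf x = 2^k * m, m odd (Nat.exists_eq_two_pow_mul_odd, orderOf_pos); y := x^(2^k) ∈ T has y^m = 1 so orderOf y ∣ m is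
odd, so y = 1. IsPGroup 2 T := fun ⟨x,hx⟩ => ⟨k, ...⟩.
-/

set_option autoImplicit false
open Cfsg Subgroup Cfsg.Agent.Lib.Helper47 Cfsg.Agent.Lib.Helper32.KSLocal

namespace Cfsg.Agent.Lib.Helper33.Sims

variable {G : Type*} [Group G] [Finite G] {P₁ P₂ T P : Subgroup G}

/-- [B] `T` is a 2-group. -/
theorem SH.isPGroup (h : SH P₁ P₂ T) : IsPGroup 2 T := by
  set N : Subgroup G := closure {x | x ∈ T ∧ Odd (orderOf x)} with hN
  have hNT : N ≤ T := by
    rw [hN, closure_le]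
    exact fun x hx => hx.1
  have hnorm : ∀ P : Subgroup G, T ≤ P → T.relIndex P = 3 → P ≤ normalizer (N : Set G) := by
    intro P hTP h3
    apply le_normalizer_of_cj_le
    intro k hk
    rw [hN, cj_closure, closure_le]
    rintro _ ⟨x, ⟨hxT, hxo⟩, rfl⟩
    apply Subgroup.subset_closure
    refine ⟨conj_mem_of_odd hTP h3 hxT hxo hk, ?_⟩
    have : orderOf (k * x * k⁻¹) = orderOf x := by
      have := orderOf_injective (MulAut.conj k).toMonoidHom (MulAut.conj k).injective x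
      simpa [MulAut.conj_apply] using this
    rwa [this]
  have hbot : N = ⊥ := h.core N hNT (hnorm P₁ h.le1 h.i1) (hnorm P₂ h.le2 h.i2)
  have hodd1 : ∀ y ∈ T, Odd (orderOf y) → y = 1 := by
    intro y hy ho
    have : y ∈ N := Subgroup.subset_closure ⟨hy, ho⟩
    rwa [hbot, mem_bot] at this
  rintro ⟨x, hx⟩
  obtain ⟨k, m, hm, hkm⟩ := Nat.exists_eq_two_pow_mul_odd (orderOf_pos x).ne'
  refine ⟨k, ?_⟩
  apply Subtype.ext
  show x ^ 2 ^ k = 1
  apply hodd1 _ (T.pow_mem hx _)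
  have h1 : (x ^ 2 ^ k) ^ m = 1 := by
    rw [← pow_mul, ← hkm, pow_orderOf_eq_one]
  exact Odd.of_dvd_nat hm (orderOf_dvd_of_pow_eq_one h1)

end Cfsg.Agent.Lib.Helper33.Sims
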