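import Cfsg.Agent.Lib.Helper33.Sims.Defs

/-! Sims farm (S3385 S3685), piece [C].
PROOF. hs : IsSylowIn 2 T P := isSylowIn_of_not_dvd_relIndex hTP hT2 (by rw [h3]; norm_num) (needs Fact (Nat.Prime 2)).
Q := pCoreOf 2 P ≤ T (pCoreOf_le_of_isSylowIn hs). K' := (T.subgroupOf P).normalCore : Subgroup ↥P, normal, ≤ T.subgroupOf P, so
K := K'.map P.subtype is a 2-group ≤ P normalized by P: K ≤ Q (Helper47.le_pCoreOf). K.relIndex P = K'.index = Nat.card (range of
MulAction.toPermHom ↥P (↥P ⧸ T.subgroupOf P)) (Subgroup.normalCore_eq_ker, Subgroup.index_ker) divides Nat.card (Equiv.Perm X) = 3! = 6.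
Q.relIndex P ∣ K.relIndex P (relIndex_dvd_of_le_left). Q.relIndex T * 3 = Q.relIndex P (relIndex_mul_relIndex). So Q.relIndex T ∣ 2.
Q.relIndex T ≠ 1: otherwise T ≤ Q, T = Q and P ≤ normalizer T (le_normalizer_pCoreOf), contradiction with hn.
-/

set_option autoImplicit false
open Cfsg Subgroup Cfsg.Agent.Lib.Helper47 Cfsg.Agent.Lib.Helper32.KSLocal

namespace Cfsg.Agent.Lib.Helper33.Sims

variable {G : Type*} [Group G] [Finite G] {P₁ P₂ T P : Subgroup G}

/-- [C] -/
theorem relIndex_pCoreOf (hTP : T ≤ P) (hT2 : IsPGroup 2 T) (h3 : T.relIndex P = 3)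
    (hn : ¬ P ≤ normalizer (T : Set G)) : (pCoreOf 2 P).relIndex P = 6 := by
  have : Fact (Nat.Prime 2) := ⟨Nat.prime_two⟩
  have hs : IsSylowIn 2 T P := isSylowIn_of_not_dvd_relIndex hTP hT2 (by rw [h3]; norm_num)
  have hQT : pCoreOf 2 P ≤ T := pCoreOf_le_of_isSylowIn hs
  set K' : Subgroup ↥P := (T.subgroupOf P).normalCore with hK'
  set K : Subgroup G := K'.map P.subtype with hK
  have hKT : K ≤ T := by
    have := map_mono (f := P.subtype) (normalCore_le (T.subgroupOf P))
    rwa [map_subgroupOf_eq_of_le hTP] at this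
  have hKP : K ≤ P := map_subtype_le _
  have hKsub : K.subgroupOf P = K' := comap_map_eq_self_of_injective (subtype_injective P) K'
  have hKn : P ≤ normalizer (K : Set G) := by
    apply (normal_subgroupOf_iff_le_normalizer hKP).mp
    rw [hKsub]
    infer_instance
  have hKQ : K ≤ pCoreOf 2 P := Helper47.le_pCoreOf hKP hKn (hT2.to_le hKT)
  have hKidx : K.relIndex P = K'.index := by
    rw [relIndex, hKsub]
  have h6 : K'.index ∣ 6 := by
    rw [hK', normalCore_eq_ker, index_ker]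
    have h1 := Subgroup.card_subgroup_dvd_card
      (MulAction.toPermHom ↥P (↥P ⧸ T.subgroupOf P)).range
    rw [Nat.card_perm] at h1
    have h2 : Nat.card (↥P ⧸ T.subgroupOf P) = 3 := h3
    rw [h2] at h1
    exact h1
  have h7 : (pCoreOf 2 P).relIndex P ∣ 6 := by
    rw [← hKidx] at h6
    exact (relIndex_dvd_of_le_left P hKQ).trans h6
  have h8 : (pCoreOf 2 P).relIndex T * 3 = (pCoreOf 2 P).relIndex P := by
    rw [← h3]
    exact relIndex_mul_relIndex _ _ _ hQT hTP
  have h9 : (pCoreOf 2 P).relIndex T ≠ 1 := by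
    intro h1
    rw [relIndex_eq_one] at h1
    have : T = pCoreOf 2 P := le_antisymm h1 hQT
    apply hn
    rw [this]
    exact le_normalizer_pCoreOf P
  rw [← h8] at h7 ⊢
  have h10 : (pCoreOf 2 P).relIndex T ∣ 2 := by
    have : (pCoreOf 2 P).relIndex T * 3 ∣ 2 * 3 := h7
    exact Nat.dvd_of_mul_dvd_mul_right (by norm_num) this
  rcases (Nat.dvd_prime Nat.prime_two).mp h10 with h | h
  · exact absurd h h9
  · rw [h]

end Cfsg.Agent.Lib.Helper33.Sims
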