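import Cfsg.Agent.Lib.Helper33.Sims.B

/-! Sims farm (S3385 S3685), piece [D].
PROOF. hT2 := h.isPGroup. hs1 : IsSylowIn 2 T P₁ (isSylowIn_of_not_dvd_relIndex h.le1 hT2 (by rw [h.i1]; norm_num)). g from h.conj.
hs2 := hs1.conj g : IsSylowIn 2 (cj g T) (cj g P₁) = ... P₂. cj g P₁ ≤ normalizer (cj g T) (cj_normalizer + cj_mono hn).
IsSylowIn.le_of_normal gives T ≤ cj g T (T is a 2-subgroup of P₂); cards equal (card_cj) so T = cj g T (Subgroup.eq_of_le_of_card_ge);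
so P₂ ≤ normalizer T; h.core T le_rfl hn _ : T = ⊥. Nat.card P₁ = (⊥).relIndex P₁ = 3 (relIndex_bot_left, h.i1).
-/

set_option autoImplicit false
open Cfsg Subgroup Cfsg.Agent.Lib.Helper47 Cfsg.Agent.Lib.Helper32.KSLocal

namespace Cfsg.Agent.Lib.Helper33.Sims

variable {G : Type*} [Group G] [Finite G] {P₁ P₂ T P : Subgroup G}

/-- [D] -/
theorem SH.card_of_normal (h : SH P₁ P₂ T) (hn : P₁ ≤ normalizer (T : Set G)) :
    Nat.card P₁ = 3 := by
  have hT2 := h.isPGroup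
  have : Fact (Nat.Prime 2) := ⟨Nat.prime_two⟩
  obtain ⟨g, hg⟩ := h.conj
  have hs1 : IsSylowIn 2 T P₁ :=
    isSylowIn_of_not_dvd_relIndex h.le1 hT2 (by rw [h.i1]; norm_num)
  have hs2 : IsSylowIn 2 (cj g T) P₂ := hg ▸ hs1.conj g
  have hn2 : P₂ ≤ normalizer ((cj g T : Subgroup G) : Set G) := by
    rw [← hg, ← cj_normalizer]
    exact cj_mono hn
  have hle : T ≤ cj g T := hs2.le_of_normal hn2 hT2 h.le2
  have heq : T = cj g T := Subgroup.eq_of_le_of_card_ge hle (by rw [card_cj])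
  rw [← heq] at hn2
  have hbot : T = ⊥ := h.core T le_rfl hn hn2
  have h3 := h.i1
  rw [hbot, relIndex_bot_left] at h3
  exact h3

end Cfsg.Agent.Lib.Helper33.Sims
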