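import Cfsg.Agent.Lib.Helper32.Am.Inst
import Cfsg.Agent.Lib.Helper55.Ident.Main

/-!
# Sims / Wong: primitive groups with a suborbit of length 3 (S3385, S3685; helper33)

Definitions: the amalgam of two conjugate point stabilizers.
-/

set_option autoImplicit false
open Cfsg Subgroup Cfsg.Agent.Lib.Helper47 Cfsg.Agent.Lib.Helper32.KSLocal

namespace Cfsg.Agent.Lib.Helper33.Sims

variable {G : Type*} [Group G]

/-- two conjugate subgroups `P₁`, `P₂` with a common subgroup `T` of index 3 containing no nontrivial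
subgroup normalized by both. -/
structure SH (P₁ P₂ T : Subgroup G) : Prop where
  le1 : T ≤ P₁
  le2 : T ≤ P₂
  i1 : T.relIndex P₁ = 3
  i2 : T.relIndex P₂ = 3
  conj : ∃ g : G, cj g P₁ = P₂
  core : ∀ N : Subgroup G, N ≤ T → P₁ ≤ normalizer (N : Set G) → P₂ ≤ normalizer (N : Set G) →
    N = ⊥

theorem SH.symm {P₁ P₂ T : Subgroup G} (h : SH P₁ P₂ T) : SH P₂ P₁ T := by
  obtain ⟨g, hg⟩ := h.conj
  exact ⟨h.le2, h.le1, h.i2, h.i1, ⟨g⁻¹, by rw [← hg, cj_inv_cj]⟩, fun N hN a b => h.core N hN b a⟩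

end Cfsg.Agent.Lib.Helper33.Sims
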