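import Cfsg.Agent.Lib.Helper33.Sims.B

/-! Sims farm (S3385 S3685), piece [E].
PROOF. g₀ from h.conj. T and cj g₀ T are both IsSylowIn 2 _ P₂ (isSylowIn_of_not_dvd_relIndex with h.i2; IsSylowIn.conj).
IsSylowIn.exists_conj gives k ∈ P₂ with cj k (cj g₀ T) = T (check the direction in Helper47/Syl.lean). g := k * g₀: cj_mul,
cj k P₂ = P₂ (cj_eq_self_of_mem).
-/

set_option autoImplicit false
open Cfsg Subgroup Cfsg.Agent.Lib.Helper47 Cfsg.Agent.Lib.Helper32.KSLocal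

namespace Cfsg.Agent.Lib.Helper33.Sims

variable {G : Type*} [Group G] [Finite G] {P₁ P₂ T P : Subgroup G}

/-- [E] -/
theorem SH.exists_conj (h : SH P₁ P₂ T) : ∃ g : G, cj g P₁ = P₂ ∧ cj g T = T := by
  have hT2 := h.isPGroup
  have : Fact (Nat.Prime 2) := ⟨Nat.prime_two⟩
  obtain ⟨g₀, hg₀⟩ := h.conj
  have hs1 : IsSylowIn 2 T P₁ :=
    isSylowIn_of_not_dvd_relIndex h.le1 hT2 (by rw [h.i1]; norm_num)
  have hs2 : IsSylowIn 2 T P₂ :=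
    isSylowIn_of_not_dvd_relIndex h.le2 hT2 (by rw [h.i2]; norm_num)
  have hs3 : IsSylowIn 2 (cj g₀ T) P₂ := hg₀ ▸ hs1.conj g₀
  obtain ⟨k, hk, hkT⟩ := hs3.exists_conj hs2
  refine ⟨k * g₀, ?_, ?_⟩
  · rw [cj_mul, hg₀, cj_eq_self_of_mem hk]
  · rw [cj_mul, hkT]

end Cfsg.Agent.Lib.Helper33.Sims
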