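import Cfsg.Agent.Lib.Helper33.Sims.Defs

/-! Sims farm (S3385 S3685), piece [F].
PROOF. By contradiction: every d ∈ C := P ⊓ centralizer Q (Q := pCoreOf 2 P) lies in T, so C ≤ T is a 2-group (hT2.to_le), C ≤ P,
and P normalizes C (P normalizes Q: le_normalizer_pCoreOf, hence centralizer Q: for p ∈ P, c ∈ C, q ∈ Q: p c p⁻¹ commutes with q because
c commutes with p⁻¹ q p ∈ Q). So C ≤ Q by Helper47.le_pCoreOf, contradiction with hC.
-/

set_option autoImplicit false
open Cfsg Subgroup Cfsg.Agent.Lib.Helper47 Cfsg.Agent.Lib.Helper32.KSLocal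

namespace Cfsg.Agent.Lib.Helper33.Sims

variable {G : Type*} [Group G] [Finite G] {P₁ P₂ T P : Subgroup G}

/-- [F] -/
theorem exists_cent (hTP : T ≤ P) (hT2 : IsPGroup 2 T)
    (hC : ¬ P ⊓ centralizer (pCoreOf 2 P : Set G) ≤ pCoreOf 2 P) :
    ∃ d ∈ P, d ∉ T ∧ d ∈ centralizer (pCoreOf 2 P : Set G) := by
  by_contra hcon
  push Not at hcon
  apply hC
  have hCT : P ⊓ centralizer (pCoreOf 2 P : Set G) ≤ T := by
    intro d hd
    by_contra hdT
    exact hcon d hd.1 hdT hd.2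
  apply Helper47.le_pCoreOf inf_le_left _ (hT2.to_le hCT)
  apply le_normalizer_of_cj_le
  intro k hk x hx
  rw [mem_cj] at hx
  have hkx : x ∈ P := by
    have := P.mul_mem (P.mul_mem hk hx.1) (P.inv_mem hk)
    have e : k * (k⁻¹ * x * k) * k⁻¹ = x := by group
    rwa [e] at this
  refine ⟨hkx, ?_⟩
  show x ∈ centralizer (pCoreOf 2 P : Set G)
  rw [mem_centralizer_iff]
  intro q hq
  have hq' : k⁻¹ * q * k ∈ pCoreOf 2 P := by
    have := (mem_normalizer_iff.mp (inv_mem (le_normalizer_pCoreOf (p := 2) P hk)) q).mp hq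
    simpa using this
  have h1 := (mem_centralizer_iff.mp hx.2) _ hq'
  have e1 : q * x = k * ((k⁻¹ * q * k) * (k⁻¹ * x * k)) * k⁻¹ := by group
  have e2 : x * q = k * ((k⁻¹ * x * k) * (k⁻¹ * q * k)) * k⁻¹ := by group
  rw [e1, e2, h1]

end Cfsg.Agent.Lib.Helper33.Sims
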