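import Cfsg.Agent.Lib.Helper33.Sims.Defs

/-! Sims farm (S3385 S3685), piece [G]. -/

set_option autoImplicit false
open Cfsg Subgroup Cfsg.Agent.Lib.Helper47 Cfsg.Agent.Lib.Helper32.KSLocal

namespace Cfsg.Agent.Lib.Helper33.Sims

variable {G : Type*} [Group G] [Finite G] {P₁ P₂ T P : Subgroup G}

omit [Finite G] in
/-- [G] -/
theorem le_normalizer_of_gen (hTP : T ≤ P) (h3 : T.relIndex P = 3) {d : G} (hd : d ∈ P)
    (hdT : d ∉ T) {N : Subgroup G} (hT : T ≤ normalizer (N : Set G))
    (hdN : d ∈ normalizer (N : Set G)) : P ≤ normalizer (N : Set G) := by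
  have hlt : T < P ⊓ normalizer (N : Set G) := by
    refine lt_of_le_of_ne (le_inf hTP hT) ?_
    intro he
    apply hdT
    rw [he]
    exact ⟨hd, hdN⟩
  have := eq_of_lt_of_le_prime Nat.prime_three hlt inf_le_left h3
  rw [← this]
  exact inf_le_right

end Cfsg.Agent.Lib.Helper33.Sims
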