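import Cfsg.Agent.Lib.Helper33.Sims.B
import Cfsg.Agent.Lib.Helper33.Sims.F
import Cfsg.Agent.Lib.Helper33.Sims.G

/-! Sims farm (S3385 S3685), piece [H]. -/

set_option autoImplicit false
open Cfsg Subgroup Cfsg.Agent.Lib.Helper47 Cfsg.Agent.Lib.Helper32.KSLocal

namespace Cfsg.Agent.Lib.Helper33.Sims

variable {G : Type*} [Group G] [Finite G] {P₁ P₂ T P : Subgroup G}

omit [Finite G] in
theorem mem_normalizer_of_cent {R Q : Subgroup G} (hRQ : R ≤ Q) {d : G}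
    (hd : d ∈ centralizer (Q : Set G)) : d ∈ normalizer (R : Set G) := by
  have : d ∈ centralizer (R : Set G) := centralizer_le (by exact_mod_cast hRQ) hd
  exact centralizer_le_normalizer _ this

omit [Finite G] in
theorem le_normalizer_inf' {X A B : Subgroup G} (hA : X ≤ normalizer (A : Set G))
    (hB : X ≤ normalizer (B : Set G)) : X ≤ normalizer ((A ⊓ B : Subgroup G) : Set G) := by
  intro x hx
  rw [mem_normalizer_iff]
  intro y
  rw [mem_inf, mem_inf, ← mem_normalizer_iff.mp (hA hx) y, ← mem_normalizer_iff.mp (hB hx) y]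

/-- [H] -/
theorem SH.inf_eq_bot (h : SH P₁ P₂ T)
    (hC1 : ¬ P₁ ⊓ centralizer (pCoreOf 2 P₁ : Set G) ≤ pCoreOf 2 P₁)
    (hC2 : ¬ P₂ ⊓ centralizer (pCoreOf 2 P₂ : Set G) ≤ pCoreOf 2 P₂) :
    pCoreOf 2 P₁ ⊓ pCoreOf 2 P₂ = ⊥ := by
  have : Fact (Nat.Prime 2) := ⟨Nat.prime_two⟩
  have hT2 := h.isPGroup
  have hs1 : IsSylowIn 2 T P₁ := isSylowIn_of_not_dvd_relIndex h.le1 hT2 (by rw [h.i1]; norm_num)
  have hQ1T : pCoreOf 2 P₁ ≤ T := pCoreOf_le_of_isSylowIn hs1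
  have hTn : T ≤ normalizer ((pCoreOf 2 P₁ ⊓ pCoreOf 2 P₂ : Subgroup G) : Set G) :=
    le_normalizer_inf' (h.le1.trans (le_normalizer_pCoreOf P₁))
      (h.le2.trans (le_normalizer_pCoreOf P₂))
  obtain ⟨d₁, hd₁, hd₁T, hd₁c⟩ := exists_cent h.le1 hT2 hC1
  obtain ⟨d₂, hd₂, hd₂T, hd₂c⟩ := exists_cent h.le2 hT2 hC2
  exact h.core _ (inf_le_left.trans hQ1T)
    (le_normalizer_of_gen h.le1 h.i1 hd₁ hd₁T hTn (mem_normalizer_of_cent inf_le_left hd₁c))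
    (le_normalizer_of_gen h.le2 h.i2 hd₂ hd₂T hTn (mem_normalizer_of_cent inf_le_right hd₂c))

end Cfsg.Agent.Lib.Helper33.Sims
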