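import Cfsg.Agent.Lib.Helper33.Sims.Defs

/-! Sims farm (S3385 S3685), piece [I]. -/

set_option autoImplicit false
open Cfsg Subgroup Cfsg.Agent.Lib.Helper47 Cfsg.Agent.Lib.Helper32.KSLocal

namespace Cfsg.Agent.Lib.Helper33.Sims

variable {G : Type*} [Group G] [Finite G] {P₁ P₂ T P : Subgroup G}

omit [Finite G] in
/-- [I] -/
theorem SH.cent_le (h : SH P₁ P₂ T)
    (hC1 : P₁ ⊓ centralizer (pCoreOf 2 P₁ : Set G) ≤ pCoreOf 2 P₁) :
    P₂ ⊓ centralizer (pCoreOf 2 P₂ : Set G) ≤ pCoreOf 2 P₂ := by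
  obtain ⟨g, hg⟩ := h.conj
  have := cj_mono (g := g) hC1
  rwa [cj_inf, cj_centralizer, cj_pCoreOf, hg] at this

end Cfsg.Agent.Lib.Helper33.Sims
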