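import Cfsg.Agent.Lib.Helper33.Sims.E
import Cfsg.Agent.Lib.Helper55.KS.GB

/-! Sims farm (S3385 S3685), piece [J]. -/

set_option autoImplicit false
open Cfsg Subgroup Cfsg.Agent.Lib.Helper47 Cfsg.Agent.Lib.Helper32.KSLocal

namespace Cfsg.Agent.Lib.Helper33.Sims

variable {G : Type*} [Group G] [Finite G] {P₁ P₂ T P : Subgroup G}

/-- [J] -/
theorem SH.not_central (h : SH P₁ P₂ T) (hT1 : T ≠ ⊥) :
    ¬ P₁ ≤ centralizer (omegaCenterOf T : Set G) := by
  intro hc
  obtain ⟨g, hg, hgT⟩ := h.exists_conj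
  have hZ : cj g (omegaCenterOf T) = omegaCenterOf T := by
    rw [cj_omegaCenterOf, hgT]
  have hc2 : P₂ ≤ centralizer (omegaCenterOf T : Set G) := by
    have := cj_mono (g := g) hc
    rwa [hg, cj_centralizer, hZ] at this
  have hb : omegaCenterOf T = ⊥ :=
    h.core _ ((omegaCenterOf_le T).trans inf_le_left) (hc.trans (centralizer_le_normalizer _))
      (hc2.trans (centralizer_le_normalizer _))
  exact Cfsg.Agent.Lib.Helper55.KS.OZ_ne_bot h.isPGroup hT1 hb

end Cfsg.Agent.Lib.Helper33.Sims
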