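import Cfsg.Agent.Lib.Helper33.Sims.Defs
import Cfsg.Agent.Lib.Helper5.PermEmbed

/-! Sims farm (S3385 S3685), piece [K2]. -/

set_option autoImplicit false
open Cfsg Subgroup Cfsg.Agent.Lib.Helper47 Cfsg.Agent.Lib.Helper32.KSLocal

namespace Cfsg.Agent.Lib.Helper33.Sims

/-- [K2] -/
theorem s3_of {K : Type*} [Group K] [Finite K] (hK : Nat.card K = 6) (T : Subgroup K)
    (hT : Nat.card T = 2) (hn : ¬ T.Normal) : Nonempty (K ≃* Equiv.Perm (Fin 3)) := by
  have hker : (MulAction.toPermHom K (K ⧸ T)).ker = ⊥ := by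
    rw [← Subgroup.normalCore_eq_ker]
    by_contra hne
    apply hn
    have hle : T.normalCore ≤ T := normalCore_le T
    have hc : Nat.card T.normalCore ∣ 2 := by
      rw [← hT]; exact card_dvd_of_le hle
    have hc1 : Nat.card T.normalCore ≠ 1 := fun h1 => hne (card_eq_one.mp h1)
    have hc2 : Nat.card T.normalCore = 2 := by
      rcases (Nat.dvd_prime Nat.prime_two).mp hc with h | h
      · exact absurd h hc1
      · exact h
    have : T.normalCore = T := eq_of_le_of_card_ge hle (by rw [hc2, hT])
    rw [← this]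
    exact normalCore_normal T
  have hinj : Function.Injective (MulAction.toPermHom K (K ⧸ T)) :=
    (MonoidHom.ker_eq_bot_iff _).mp hker
  have h3 : Nat.card (K ⧸ T) = 3 := by
    have := T.card_mul_index
    rw [hT, hK] at this
    show T.index = 3
    omega
  exact Cfsg.Agent.Lib.Helper5.nonempty_mulEquiv_perm_of_injective _ hinj 3 h3 (by rw [hK]; rfl)

end Cfsg.Agent.Lib.Helper33.Sims
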