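import Cfsg.Agent.Lib.Helper33.Sims.Defs
import Cfsg.Agent.Lib.Helper54.Dihedral

/-! Sims farm (S3385 S3685), piece [K3].
PROOF. c of order 3 (exists_prime_orderOf_dvd_card 3). orderOf q = 2 (hsq q hq, hq1). a := c * q has order 6
(Commute.orderOf_mul_eq_mul_orderOf_of_coprime). A := zpowers a has order 6, index 2, so it is normal (normal_of_index_eq_two).
Pick t ∈ T, t ≠ 1, t ≠ q (card T = 4). t ∉ A: an element a^i with (a^i)^2 = 1 has 6 ∣ 2i, 3 ∣ i, so a^i ∈ {1, a^3}, a^3 = c^3 q^3 = q.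
t a t⁻¹ ∈ A has order 6; write it a^i (i < 6): only i = 1, 5 give order 6 (orderOf_pow / decide on i), so t a t⁻¹ = a or a⁻¹ (a^5 = a⁻¹).
If t a t⁻¹ = a: every k ∈ K is in A or t*A... (index 2: mul_mem_iff_of_index_two), so k commutes with t and with q; T = {1,q,t,q t}
(4 distinct elements of T, card 4), so k T k⁻¹ = T and T is normal: contradiction. So t a t⁻¹ = a⁻¹:
Cfsg.Agent.Lib.Helper54.nonempty_mulEquiv_dihedralGroup 6 a t _ (hsq t ht) _ _ (by rw [hK]).
-/

set_option autoImplicit false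
open Cfsg Subgroup Cfsg.Agent.Lib.Helper47 Cfsg.Agent.Lib.Helper32.KSLocal

namespace Cfsg.Agent.Lib.Helper33.Sims

variable {G : Type*} [Group G] [Finite G] {P₁ P₂ T P : Subgroup G}

private lemma K3_sq : ∀ x : ZMod 6, x * x = 1 → x = 1 ∨ x = -1 := by decide

/-- [K3] -/
theorem d12_of {K : Type*} [Group K] [Finite K] (hK : Nat.card K = 12) (T : Subgroup K)
    (hT : Nat.card T = 4) (hsq : ∀ t ∈ T, t * t = 1) (hn : ¬ T.Normal) (q : K) (hq : q ∈ T)
    (hq1 : q ≠ 1) (hqc : ∀ k : K, k * q = q * k) : Nonempty (K ≃* DihedralGroup 6) := by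
  classical
  have : Fact (Nat.Prime 3) := ⟨Nat.prime_three⟩
  have : Fact (Nat.Prime 2) := ⟨Nat.prime_two⟩
  obtain ⟨c, hc⟩ := exists_prime_orderOf_dvd_card' (G := K) 3 (by rw [hK]; norm_num)
  have hq2 : q ^ 2 = 1 := by rw [pow_two]; exact hsq q hq
  have hoq : orderOf q = 2 := orderOf_eq_prime hq2 hq1
  have hcq : Commute c q := hqc c
  set a : K := c * q with ha
  have hoa : orderOf a = 6 := by
    rw [ha, hcq.orderOf_mul_eq_mul_orderOf_of_coprime (by rw [hc, hoq]; decide), hc, hoq]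
  have ha3 : a ^ 3 = q := by
    have hc3 : c ^ 3 = 1 := by rw [← hc, pow_orderOf_eq_one]
    rw [ha, hcq.mul_pow, hc3, one_mul, pow_succ, hq2, one_mul]
  set A : Subgroup K := Subgroup.zpowers a with hA
  have hcardA : Nat.card A = 6 := by rw [hA, Nat.card_zpowers, hoa]
  have hidx : A.index = 2 := by
    have := A.card_mul_index
    rw [hcardA, hK] at this
    omega
  have hAn : A.Normal := Subgroup.normal_of_index_eq_two hidx
  -- an element of T outside {1, q}
  obtain ⟨t, ht, ht1, htq⟩ : ∃ t ∈ T, t ≠ 1 ∧ t ≠ q := by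
    by_contra hcon
    push Not at hcon
    have hsub : (T : Set K) ⊆ {1, q} := by
      intro s hs
      by_cases h1 : s = 1
      · left; exact h1
      · right; exact hcon s hs h1
    have h1 : (T : Set K).ncard ≤ ({1, q} : Set K).ncard := Set.ncard_le_ncard hsub (Set.toFinite _)
    have h2 : ({1, q} : Set K).ncard ≤ 2 := by
      rw [Set.ncard_pair hq1.symm]
    have h3 : Nat.card T = (T : Set K).ncard := Nat.card_coe_set_eq _
    omega
  have htt : t * t = 1 := hsq t ht
  have htinv : t⁻¹ = t := inv_eq_of_mul_eq_one_left htt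
  have htA : t ∉ A := by
    intro h
    obtain ⟨i, hi⟩ := Subgroup.mem_zpowers_iff.1 h
    have h1 : a ^ (i + i) = 1 := by rw [zpow_add, hi, htt]
    have h2 : ((orderOf a : ℕ) : ℤ) ∣ i + i := orderOf_dvd_iff_zpow_eq_one.2 h1
    rw [hoa] at h2
    obtain ⟨j, hj⟩ : ∃ j, i = 3 * j := by
      obtain ⟨m, hm⟩ := h2
      exact ⟨m, by push_cast at hm; omega⟩
    have h3 : t = q ^ j := by
      rw [← hi, hj, zpow_mul, ← ha3]
      norm_cast
    rcases Int.even_or_odd' j with ⟨m, hm | hm⟩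
    · apply ht1
      rw [h3, hm, zpow_mul]
      have : q ^ (2 : ℤ) = 1 := by exact_mod_cast hq2
      rw [this, one_zpow]
    · apply htq
      rw [h3, hm, zpow_add, zpow_mul, zpow_one]
      have : q ^ (2 : ℤ) = 1 := by exact_mod_cast hq2
      rw [this, one_zpow, one_mul]
  have hconjA : t * a * t⁻¹ ∈ A := hAn.conj_mem a (Subgroup.mem_zpowers a) t
  obtain ⟨i, hi⟩ := Subgroup.mem_zpowers_iff.1 hconjA
  have hii : a ^ (i * i) = a := by
    calc a ^ (i * i) = (a ^ i) ^ i := zpow_mul _ _ _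
      _ = (t * a * t⁻¹) ^ i := by rw [hi]
      _ = t * a ^ i * t⁻¹ := conj_zpow
      _ = t * (t * a * t⁻¹) * t⁻¹ := by rw [hi]
      _ = (t * t) * a * (t * t) := by rw [htinv]; simp only [mul_assoc]
      _ = a := by rw [htt, one_mul, mul_one]
  have h6 : ((orderOf a : ℕ) : ℤ) ∣ i * i - 1 := by
    apply orderOf_dvd_iff_zpow_eq_one.2
    rw [zpow_sub_one, hii, mul_inv_cancel]
  rw [hoa] at h6
  have hz : ((i * i - 1 : ℤ) : ZMod 6) = 0 := (ZMod.intCast_zmod_eq_zero_iff_dvd _ 6).2 h6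
  push_cast at hz
  have hz' : (i : ZMod 6) * (i : ZMod 6) = 1 := by linear_combination hz
  rcases K3_sq _ hz' with h1 | h1
  · -- `t` centralizes `a`: contradiction
    exfalso
    have h2 : ((i - 1 : ℤ) : ZMod 6) = 0 := by push_cast; rw [h1, sub_self]
    have h3 : ((6 : ℕ) : ℤ) ∣ i - 1 := (ZMod.intCast_zmod_eq_zero_iff_dvd _ 6).1 h2
    rw [← hoa] at h3
    have h4 : a ^ (i - 1) = 1 := orderOf_dvd_iff_zpow_eq_one.1 h3
    have h5 : a ^ i = a := by
      have : a ^ i = a ^ (i - 1) * a := by rw [← zpow_add_one, sub_add_cancel]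
      rw [this, h4, one_mul]
    rw [h5] at hi
    have hta : Commute t a := by
      show t * a = a * t
      calc t * a = t * a * t⁻¹ * t := by group
        _ = a * t := by rw [← hi]
    have htc : ∀ k : K, k * t = t * k := by
      intro k
      by_cases hk : k ∈ A
      · obtain ⟨j, rfl⟩ := Subgroup.mem_zpowers_iff.1 hk
        exact ((hta.zpow_right j).eq).symm
      · have h7 : t * k ∈ A := (Subgroup.mul_mem_iff_of_index_two hidx).2 (by simp [htA, hk])
        obtain ⟨j, hj⟩ := Subgroup.mem_zpowers_iff.1 h7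
        have h8 : k = t * a ^ j := by
          rw [hj, ← mul_assoc, htt, one_mul]
        rw [h8, mul_assoc, ← (hta.zpow_right j).eq]
    have hle : T ⊓ Subgroup.center K = T := by
      apply Subgroup.eq_of_le_of_card_ge inf_le_left
      have hd : Nat.card (T ⊓ Subgroup.center K : Subgroup K) ∣ Nat.card T :=
        Subgroup.card_dvd_of_le inf_le_left
      rw [hT] at hd ⊢
      have hsub : ({1, q, t} : Set K) ⊆ ((T ⊓ Subgroup.center K : Subgroup K) : Set K) := by
        rintro s (rfl | rfl | rfl)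
        · exact Subgroup.one_mem _
        · exact ⟨hq, Subgroup.mem_center_iff.2 hqc⟩
        · exact ⟨ht, Subgroup.mem_center_iff.2 htc⟩
      have h3 : ({1, q, t} : Set K).ncard = 3 := by
        rw [Set.ncard_eq_three]
        exact ⟨1, q, t, hq1.symm, ht1.symm, htq.symm, rfl⟩
      have h4 := Set.ncard_le_ncard hsub (Set.toFinite _)
      have h5 : Nat.card (T ⊓ Subgroup.center K : Subgroup K) =
          ((T ⊓ Subgroup.center K : Subgroup K) : Set K).ncard := Nat.card_coe_set_eq _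
      have h6 : 3 ≤ Nat.card (T ⊓ Subgroup.center K : Subgroup K) := by omega
      have h7 : Nat.card (T ⊓ Subgroup.center K : Subgroup K) ≤ 4 := Nat.le_of_dvd (by norm_num) hd
      interval_cases h8 : Nat.card (T ⊓ Subgroup.center K : Subgroup K)
      · exact absurd hd (by decide)
      · exact le_refl _
    apply hn
    refine ⟨fun s hs k => ?_⟩
    have hsc : s ∈ Subgroup.center K := by
      rw [← hle] at hs
      exact hs.2
    have : k * s * k⁻¹ = s := by
      rw [(Subgroup.mem_center_iff.1 hsc k), mul_assoc, mul_inv_cancel, mul_one]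
    rw [this]
    exact hs
  · have h2 : ((i + 1 : ℤ) : ZMod 6) = 0 := by push_cast; rw [h1]; ring
    have h3 : ((6 : ℕ) : ℤ) ∣ i + 1 := (ZMod.intCast_zmod_eq_zero_iff_dvd _ 6).1 h2
    rw [← hoa] at h3
    have h4 : a ^ (i + 1) = 1 := orderOf_dvd_iff_zpow_eq_one.1 h3
    have h5 : a ^ i = a⁻¹ := by
      rw [zpow_add_one] at h4
      exact eq_inv_of_mul_eq_one_left h4
    rw [h5] at hi
    exact Cfsg.Agent.Lib.Helper54.nonempty_mulEquiv_dihedralGroup 6 a t hoa htt hi.symm htA (by rw [hK])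

end Cfsg.Agent.Lib.Helper33.Sims
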