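import Cfsg.Agent.Lib.Helper33.Sims.B
import Cfsg.Agent.Lib.Helper33.Sims.K2
import Cfsg.Agent.Lib.Helper33.Sims.K3
import Cfsg.Agent.S3684

/-! Sims farm (S3385 S3685), piece [K4]: the small case. -/

set_option autoImplicit false
open Cfsg Subgroup Cfsg.Agent.Lib.Helper47 Cfsg.Agent.Lib.Helper32.KSLocal

namespace Cfsg.Agent.Lib.Helper33.Sims

variable {G : Type*} [Group G] [Finite G] {P₁ P₂ T P : Subgroup G}

/-- [K4] the small case. -/
theorem SH.small (h : SH P₁ P₂ T) (hn : ¬ P₁ ≤ normalizer (T : Set G))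
    (h61 : (pCoreOf 2 P₁).relIndex P₁ = 6) (h62 : (pCoreOf 2 P₂).relIndex P₂ = 6)
    (hb : pCoreOf 2 P₁ ⊓ pCoreOf 2 P₂ = ⊥) :
    Nonempty (↥P₁ ≃* Equiv.Perm (Fin 3)) ∨ Nonempty (↥P₁ ≃* DihedralGroup 6) := by
  have : Fact (Nat.Prime 2) := ⟨Nat.prime_two⟩
  have hT2 := h.isPGroup
  have hs1 : IsSylowIn 2 T P₁ := isSylowIn_of_not_dvd_relIndex h.le1 hT2 (by rw [h.i1]; norm_num)
  have hs2 : IsSylowIn 2 T P₂ := isSylowIn_of_not_dvd_relIndex h.le2 hT2 (by rw [h.i2]; norm_num)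
  have hQ1T : pCoreOf 2 P₁ ≤ T := pCoreOf_le_of_isSylowIn hs1
  have hQ2T : pCoreOf 2 P₂ ≤ T := pCoreOf_le_of_isSylowIn hs2
  have i1 : (pCoreOf 2 P₁).relIndex T = 2 := by
    have hm := relIndex_mul_relIndex _ _ _ hQ1T h.le1
    rw [h.i1, h61] at hm
    omega
  have i2 : (pCoreOf 2 P₂).relIndex T = 2 := by
    have hm := relIndex_mul_relIndex _ _ _ hQ2T h.le2
    rw [h.i2, h62] at hm
    omega
  -- squares
  have hsq : ∀ t ∈ T, t * t = 1 := by
    intro t ht
    have a1 : t * t ∈ pCoreOf 2 P₁ := by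
      have := (mul_mem_iff_of_index_two (H := (pCoreOf 2 P₁).subgroupOf T) i1
        (a := ⟨t, ht⟩) (b := ⟨t, ht⟩)).mpr Iff.rfl
      exact mem_subgroupOf.mp this
    have a2 : t * t ∈ pCoreOf 2 P₂ := by
      have := (mul_mem_iff_of_index_two (H := (pCoreOf 2 P₂).subgroupOf T) i2
        (a := ⟨t, ht⟩) (b := ⟨t, ht⟩)).mpr Iff.rfl
      exact mem_subgroupOf.mp this
    have : t * t ∈ pCoreOf 2 P₁ ⊓ pCoreOf 2 P₂ := ⟨a1, a2⟩
    rw [hb] at this
    exact mem_bot.mp this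
  -- cards
  have c1 : Nat.card (pCoreOf 2 P₁) ≤ 2 := by
    have e1 : (pCoreOf 2 P₂).relIndex (pCoreOf 2 P₁) = Nat.card (pCoreOf 2 P₁) := by
      rw [← inf_relIndex_left, hb, relIndex_bot_left]
    have h5 := relIndex_le_of_le_right (H := pCoreOf 2 P₂) hQ1T (by rw [i2]; norm_num)
    rw [e1, i2] at h5
    exact h5
  have c0 : 0 < Nat.card (pCoreOf 2 P₁) := Nat.card_pos
  have cT : Nat.card (pCoreOf 2 P₁) * 2 = Nat.card T := by
    have hm := relIndex_mul_relIndex (⊥ : Subgroup G) _ _ bot_le hQ1T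
    rwa [relIndex_bot_left, relIndex_bot_left, i1] at hm
  have cP : Nat.card (pCoreOf 2 P₁) * 6 = Nat.card P₁ := by
    have hm := relIndex_mul_relIndex (⊥ : Subgroup G) _ _ bot_le (pCoreOf_le (p := 2) P₁)
    rwa [relIndex_bot_left, relIndex_bot_left, h61] at hm
  have cT' : Nat.card (T.subgroupOf P₁) = Nat.card T :=
    Nat.card_congr (subgroupOfEquivOfLe h.le1).toEquiv
  have hn' : ¬ (T.subgroupOf P₁).Normal := fun hN =>
    hn ((normal_subgroupOf_iff_le_normalizer h.le1).mp hN)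
  have hcases : Nat.card (pCoreOf 2 P₁) = 1 ∨ Nat.card (pCoreOf 2 P₁) = 2 := by omega
  rcases hcases with hc | hc
  · left
    exact s3_of (by rw [← cP, hc]) (T.subgroupOf P₁) (by rw [cT', ← cT, hc]) hn'
  · right
    -- the nontrivial element of `Q₁`
    obtain ⟨q, hq, hqz⟩ := Cfsg.Agent.S3684.exists_of_card_two _ hc
    have hqQ : q ∈ pCoreOf 2 P₁ := by rw [hqz]; exact mem_zpowers q
    have hq1 : q ≠ 1 := by
      rintro rfl
      rw [orderOf_one] at hq
      norm_num at hq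
    have hall : ∀ x ∈ pCoreOf 2 P₁, x = 1 ∨ x = q := by
      intro x hx
      rw [hqz, mem_zpowers_iff] at hx
      obtain ⟨k, rfl⟩ := hx
      have hq2 : q ^ (2 : ℤ) = 1 := by
        have := pow_orderOf_eq_one q
        rw [hq] at this
        exact_mod_cast this
      rcases Int.even_or_odd' k with ⟨m, rfl | rfl⟩
      · left; rw [zpow_mul, hq2, one_zpow]
      · right; rw [zpow_add, zpow_mul, hq2, one_zpow, one_mul, zpow_one]
    have hqc : ∀ p ∈ P₁, p * q = q * p := by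
      intro p hp
      have h1 : p * q * p⁻¹ ∈ pCoreOf 2 P₁ :=
        (mem_normalizer_iff.mp (le_normalizer_pCoreOf (p := 2) P₁ hp) q).mp hqQ
      rcases hall _ h1 with h2 | h2
      · exfalso
        apply hq1
        have : q = p⁻¹ * (p * q * p⁻¹) * p := by group
        rw [this, h2]; group
      · calc p * q = (p * q * p⁻¹) * p := by group
          _ = q * p := by rw [h2]
    have hqP : q ∈ P₁ := pCoreOf_le (p := 2) P₁ hqQ
    refine d12_of (by rw [← cP, hc]) (T.subgroupOf P₁) (by rw [cT', ← cT, hc]) ?_ hn' ⟨q, hqP⟩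
      (mem_subgroupOf.mpr (hQ1T hqQ)) ?_ ?_
    · intro t ht
      apply Subtype.ext
      exact hsq t.1 (mem_subgroupOf.mp ht)
    · intro he
      exact hq1 (congrArg Subtype.val he)
    · intro k
      apply Subtype.ext
      exact hqc k.1 k.2

end Cfsg.Agent.Lib.Helper33.Sims
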