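import Cfsg.Agent.Lib.Helper33.Sims.Defs
import Cfsg.Agent.S3684

/-! Sims farm (S3385 S3685): translation from the permutation group; groups of order 3. -/

set_option autoImplicit false
open Cfsg Subgroup Cfsg.Agent.Lib.Helper47 Cfsg.Agent.Lib.Helper32.KSLocal

namespace Cfsg.Agent.Lib.Helper33.Sims

variable {G : Type*} [Group G] [Finite G] {P₁ P₂ T P : Subgroup G}

/-- [Z3] -/
theorem z3_of {K : Type*} [Group K] (hK : Nat.card K = 3) :
    Nonempty (K ≃* Multiplicative (ZMod 3)) := by
  have : Fact (Nat.Prime 3) := ⟨Nat.prime_three⟩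
  have hc : IsCyclic K := isCyclic_of_prime_card hK
  have e := zmodCyclicMulEquiv hc
  rw [hK] at e
  exact ⟨e.symm⟩

open MulAction in
/-- [L] translation. -/
theorem sh_of_prim {Ω : Type*} [MulAction G Ω] [FaithfulSMul G Ω]
    (hprim : MulAction.IsPreprimitive G Ω) (a b : Ω)
    (h3 : Nat.card (MulAction.orbit (MulAction.stabilizer G a) b) = 3) :
    SH (MulAction.stabilizer G a) (MulAction.stabilizer G b)
      (MulAction.stabilizer G a ⊓ MulAction.stabilizer G b) := by
  set A := stabilizer G a with hA
  set B := stabilizer G b with hB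
  have hBA : B.relIndex A = 3 := by
    have h1 : (stabilizer A b).index = 3 := by
      rw [index_stabilizer, ← Nat.card_coe_set_eq, h3]
    have h3 : stabilizer A b = B.subgroupOf A := by
      ext x
      simp [hB, mem_subgroupOf, mem_stabilizer_iff, Subgroup.smul_def]
    rw [Subgroup.relIndex, ← h3, h1]
  have hab : a ≠ b := by
    rintro rfl
    rw [relIndex_self] at hBA
    norm_num at hBA
  have : Nontrivial Ω := ⟨a, b, hab⟩
  have hmax : IsCoatom A := IsPreprimitive.isCoatom_stabilizer_of_isPreprimitive G a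
  have hind : A.index = B.index := by
    rw [hA, hB, index_stabilizer_of_transitive, index_stabilizer_of_transitive]
  have hAB : A.relIndex B = 3 := by
    have e1 : (A ⊓ B).relIndex A * A.index = (A ⊓ B).index := relIndex_mul_index inf_le_left
    have e2 : (A ⊓ B).relIndex B * B.index = (A ⊓ B).index := relIndex_mul_index inf_le_right
    rw [inf_relIndex_left, hBA] at e1
    rw [inf_relIndex_right, ← hind, ← e1] at e2
    exact Nat.eq_of_mul_eq_mul_right (Nat.pos_of_ne_zero A.index_ne_zero_of_finite) e2
  have hBnle : ¬ B ≤ A := by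
    intro hle
    rw [relIndex_eq_one.mpr hle] at hAB
    norm_num at hAB
  refine ⟨inf_le_left, inf_le_right, by rw [inf_relIndex_left, hBA],
    by rw [inf_relIndex_right, hAB], ?_, ?_⟩
  · obtain ⟨g, hg⟩ := exists_smul_eq G a b
    refine ⟨g, ?_⟩
    rw [hB, ← hg, stabilizer_smul_eq_stabilizer_map_conj]
  · intro N hN hnA hnB
    have htop : normalizer (N : Set G) = ⊤ := by
      apply hmax.2
      exact lt_of_le_of_ne hnA (fun e => hBnle (by rw [e]; exact hnB))
    exact Cfsg.Agent.S3684.eq_bot_of_normal_le_stabilizer _ (normalizer_eq_top_iff.mp htop) a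
      (hN.trans inf_le_left)

end Cfsg.Agent.Lib.Helper33.Sims
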