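import Cfsg.Agent.Lib.Helper33.Sims.C
import Cfsg.Agent.Lib.Helper33.Sims.D
import Cfsg.Agent.Lib.Helper33.Sims.H
import Cfsg.Agent.Lib.Helper33.Sims.I
import Cfsg.Agent.Lib.Helper33.Sims.J
import Cfsg.Agent.Lib.Helper33.Sims.K4
import Cfsg.Agent.Lib.Helper33.Sims.L

/-! Sims / Wong (S3385 S3685): assembly (helper33). -/

set_option autoImplicit false
open Cfsg Subgroup Cfsg.Agent.Lib.Helper47 Cfsg.Agent.Lib.Helper32.KSLocal

namespace Cfsg.Agent.Lib.Helper33.Sims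

variable {G : Type*} [Group G] [Finite G] {P₁ P₂ T P : Subgroup G}

/-- the main theorem. -/
theorem SH.main (h : SH P₁ P₂ T) :
    Nonempty (↥P₁ ≃* Multiplicative (ZMod 3)) ∨ Nonempty (↥P₁ ≃* Equiv.Perm (Fin 3)) ∨
      Nonempty (↥P₁ ≃* DihedralGroup 6) ∨ Nonempty (↥P₁ ≃* Equiv.Perm (Fin 4)) ∨
      Nonempty (↥P₁ ≃* Equiv.Perm (Fin 4) × Multiplicative (ZMod 2)) := by
  by_cases hn : P₁ ≤ normalizer (T : Set G)
  · exact Or.inl (z3_of (h.card_of_normal hn))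
  have hn2 : ¬ P₂ ≤ normalizer (T : Set G) := by
    intro hn2
    apply hn
    have hT : T = ⊥ := by
      have h3 := h.symm.card_of_normal hn2
      have hm := relIndex_mul_relIndex (⊥ : Subgroup G) _ _ bot_le h.le2
      rw [relIndex_bot_left, relIndex_bot_left, h3, h.i2] at hm
      have : Nat.card T = 1 := by omega
      exact (card_eq_one).mp this
    rw [hT]
    intro x _
    rw [mem_normalizer_iff]
    intro y
    simp [mem_bot]
  have hT2 := h.isPGroup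
  have h61 := relIndex_pCoreOf h.le1 hT2 h.i1 hn
  have h62 := relIndex_pCoreOf h.le2 hT2 h.i2 hn2
  have hT1 : T ≠ ⊥ := by
    rintro rfl
    apply hn
    intro x _
    rw [mem_normalizer_iff]
    intro y
    simp [mem_bot]
  by_cases hC1 : P₁ ⊓ centralizer (pCoreOf 2 P₁ : Set G) ≤ pCoreOf 2 P₁
  · have hC2 := h.cent_le hC1
    have F : Cfsg.Agent.Lib.Helper32.Am.FHyp P₁ P₂ T :=
      ⟨⟨h.le1, hT2, h.i1, h61, hC1, h.not_central hT1⟩,
        ⟨h.le2, hT2, h.i2, h62, hC2, h.symm.not_central hT1⟩, inferInstance, inferInstance, h.core⟩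
    rcases Cfsg.Agent.Lib.Helper55.Ident.ident F.h1 F.h2 F.hcore
      (Cfsg.Agent.Lib.Helper32.Am.amalgamF F) with ⟨a, -⟩ | ⟨a, -⟩
    · exact Or.inr (Or.inr (Or.inr (Or.inl a)))
    · exact Or.inr (Or.inr (Or.inr (Or.inr a)))
  · have hC2 : ¬ P₂ ⊓ centralizer (pCoreOf 2 P₂ : Set G) ≤ pCoreOf 2 P₂ :=
      fun hC2 => hC1 (h.symm.cent_le hC2)
    rcases h.small hn h61 h62 (h.inf_eq_bot hC1 hC2) with a | a
    · exact Or.inr (Or.inl a)
    · exact Or.inr (Or.inr (Or.inl a))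


/-- the orders. -/
theorem SH.card (h : SH P₁ P₂ T) : ∃ k : ℕ, k ≤ 4 ∧ Nat.card ↥P₁ = 2 ^ k * 3 := by
  rcases h.main with ⟨⟨e⟩⟩ | ⟨⟨e⟩⟩ | ⟨⟨e⟩⟩ | ⟨⟨e⟩⟩ | ⟨⟨e⟩⟩
  · refine ⟨0, by norm_num, ?_⟩
    rw [Nat.card_congr e.toEquiv, Nat.card_eq_fintype_card]
    rfl
  · refine ⟨1, by norm_num, ?_⟩
    rw [Nat.card_congr e.toEquiv, Nat.card_eq_fintype_card, Fintype.card_perm]
    rfl
  · refine ⟨2, by norm_num, ?_⟩
    rw [Nat.card_congr e.toEquiv, DihedralGroup.nat_card]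
    norm_num
  · refine ⟨3, by norm_num, ?_⟩
    rw [Nat.card_congr e.toEquiv, Nat.card_eq_fintype_card, Fintype.card_perm]
    rfl
  · refine ⟨4, by norm_num, ?_⟩
    rw [Nat.card_congr e.toEquiv, Nat.card_prod, Nat.card_eq_fintype_card, Fintype.card_perm]
    have : Nat.card (Multiplicative (ZMod 2)) = 2 := by
      rw [Nat.card_eq_fintype_card]; rfl
    rw [this]
    rfl

end Cfsg.Agent.Lib.Helper33.Sims
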